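import Groth.Prelude.Def_DecSh
import Mathlib.Tactic.Linarith
import Mathlib.Tactic.Ring
import Mathlib.Tactic.Positivity

/-!
# Bounds on the weight of a multi-index of a weighted filtration
-/

set_option autoImplicit false
universe v u

open CategoryTheory CategoryTheory.Limits

namespace Groth.Agent.DecSh12

variable {C : Type u} [Category.{v} C] {E : C} (𝓕 : DecSh.WFilt E) (αE : ℤ) (α : Subobject E → ℤ) {a : ℕ}

theorem nu_le (I : Fin a → Fin (𝓕.t + 1)) (i : Fin 𝓕.t) : 𝓕.nu αE α I i ≤ a :=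
  (Finset.card_filter_le _ _).trans (by simp)

theorem mulX_le (hle : ∀ i, α (𝓕.piece i) ≤ αE) (j : Fin (𝓕.t + 1)) : 𝓕.mulX αE α j ≤ αE := by
  induction j using Fin.lastCases with
  | last => simp
  | cast i => simpa using hle i

theorem nu_eq_of_eq (hle : ∀ i, α (𝓕.piece i) ≤ αE) (I : Fin a → Fin (𝓕.t + 1)) {i : Fin 𝓕.t}
    (h : α (𝓕.piece i) = αE) : 𝓕.nu αE α I i = a := by
  unfold DecSh.WFilt.nu
  rw [Finset.filter_true_of_mem fun j _ => h ▸ mulX_le 𝓕 αE α hle (I j)]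
  simp

/-- The term of one step in the weight of a multi-index. -/
theorem abs_term_le (h1 : ∀ i, 1 ≤ α (𝓕.piece i)) (hle : ∀ i, α (𝓕.piece i) ≤ αE)
    (I : Fin a → Fin (𝓕.t + 1)) (i : Fin 𝓕.t) :
    |(a : ℚ) * (α (𝓕.piece i) : ℚ) - (𝓕.nu αE α I i : ℚ) * (αE : ℚ)| ≤ (a : ℚ) * ((αE : ℚ) - 1) := by
  have hA : (1 : ℚ) ≤ αE := by exact_mod_cast (h1 i).trans (hle i)
  have ha : (0 : ℚ) ≤ a := Nat.cast_nonneg _
  rcases (hle i).lt_or_eq with h | h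
  · have hi : (1 : ℚ) ≤ α (𝓕.piece i) := by exact_mod_cast h1 i
    have hi' : (α (𝓕.piece i) : ℚ) ≤ αE - 1 := by exact_mod_cast Int.le_sub_one_of_lt h
    have hν : (𝓕.nu αE α I i : ℚ) ≤ a := by exact_mod_cast nu_le 𝓕 αE α I i
    have hν0 : (0 : ℚ) ≤ 𝓕.nu αE α I i := Nat.cast_nonneg _
    have m1 := mul_le_mul_of_nonneg_left hi ha
    have m2 := mul_le_mul_of_nonneg_left hi' ha
    have m3 := mul_le_mul_of_nonneg_right hν (show (0 : ℚ) ≤ αE by linarith)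
    have m4 := mul_nonneg hν0 (show (0 : ℚ) ≤ αE by linarith)
    rw [abs_le]
    constructor <;> nlinarith
  · rw [nu_eq_of_eq 𝓕 αE α hle I h, h, sub_self, abs_zero]
    exact mul_nonneg ha (by linarith)

theorem abs_gam_le (h1 : ∀ i, 1 ≤ α (𝓕.piece i)) (hle : ∀ i, α (𝓕.piece i) ≤ αE)
    (I : Fin a → Fin (𝓕.t + 1)) : |𝓕.gam αE α I| ≤ (∑ i, 𝓕.wt i) * (a : ℚ) * ((αE : ℚ) - 1) := by
  unfold DecSh.WFilt.gam
  refine (Finset.abs_sum_le_sum_abs _ _).trans ?_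
  rw [mul_assoc, Finset.sum_mul]
  refine Finset.sum_le_sum fun i _ => ?_
  rw [abs_mul, abs_of_pos (𝓕.wt_pos i)]
  exact mul_le_mul_of_nonneg_left (abs_term_le 𝓕 αE α h1 hle I i) (𝓕.wt_pos i).le

theorem abs_mu_le (h1 : ∀ i, 1 ≤ α (𝓕.piece i)) (hle : ∀ i, α (𝓕.piece i) ≤ αE) (N : DecSh.NV E a) :
    |𝓕.mu αE α N| ≤ (∑ i, 𝓕.wt i) * (a : ℚ) * ((αE : ℚ) - 1) := by
  obtain ⟨I, -, hI⟩ := 𝓕.exists_gam_eq_mu αE α N
  rw [← hI]
  exact abs_gam_le 𝓕 αE α h1 hle I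

/-- Lower bound on `μ`. -/
theorem le_mu (h0 : 0 ≤ αE) (N : DecSh.NV E a) :
    (a : ℚ) * ∑ i, 𝓕.wt i * ((α (𝓕.piece i) : ℚ) - (αE : ℚ)) ≤ 𝓕.mu αE α N := by
  obtain ⟨I, -, hI⟩ := 𝓕.exists_gam_eq_mu αE α N
  rw [← hI, Finset.mul_sum]
  refine Finset.sum_le_sum fun i _ => ?_
  have hν : (𝓕.nu αE α I i : ℚ) ≤ a := by exact_mod_cast nu_le 𝓕 αE α I i
  have m3 := mul_le_mul_of_nonneg_right hν (show (0 : ℚ) ≤ αE by exact_mod_cast h0)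
  rw [mul_comm (a : ℚ), mul_assoc]
  exact mul_le_mul_of_nonneg_left (by nlinarith) (𝓕.wt_pos i).le

/-- Passing to a subfiltration. -/
theorem mu_le_sub (𝓕₁ : DecSh.WFilt E) (e : Fin 𝓕₁.t → Fin 𝓕.t)
    (hpiece : ∀ j, 𝓕₁.piece j = 𝓕.piece (e j)) (hwt : ∀ j, 𝓕₁.wt j = 𝓕.wt (e j))
    (h1 : ∀ i, 1 ≤ α (𝓕.piece i)) (hle : ∀ i, α (𝓕.piece i) ≤ αE) (N : DecSh.NV E a) :
    𝓕.mu αE α N ≤ 𝓕₁.mu αE α N + ((∑ i, 𝓕.wt i) - ∑ j, 𝓕₁.wt j) * (a : ℚ) * ((αE : ℚ) - 1) := by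
  classical
  obtain ⟨I₁, hA, hI₁⟩ := 𝓕₁.exists_gam_eq_mu αE α N
  let e' : Fin (𝓕₁.t + 1) → Fin (𝓕.t + 1) := Fin.lastCases (Fin.last _) fun j => (e j).castSucc
  have hX : ∀ j, 𝓕.pieceX (e' j) = 𝓕₁.pieceX j := by
    intro j
    induction j using Fin.lastCases with
    | last => simp [e']
    | cast i => simp [e', hpiece i]
  have hM : ∀ j, 𝓕.mulX αE α (e' j) = 𝓕₁.mulX αE α j := by
    intro j
    induction j using Fin.lastCases with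
    | last => simp [e']
    | cast i => simp [e', hpiece i]
  let I := e' ∘ I₁
  have hI : 𝓕.Adm N I := by
    unfold DecSh.WFilt.Adm at hA ⊢
    simpa only [I, Function.comp_apply, hX] using hA
  have hinj : Function.Injective e := fun x y h =>
    𝓕₁.piece_strictMono.injective (by rw [hpiece, hpiece, h])
  have hnu : ∀ j, 𝓕.nu αE α I (e j) = 𝓕₁.nu αE α I₁ j := fun j => by
    unfold DecSh.WFilt.nu
    simp only [I, Function.comp_apply, hM, hpiece]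
  refine (𝓕.mu_le_gam αE α N hI).trans ?_
  rw [← hI₁]
  set S : Finset (Fin 𝓕.t) := Finset.univ.image e with hS
  have hg : 𝓕₁.gam αE α I₁ = ∑ i ∈ S, 𝓕.wt i * ((a : ℚ) * (α (𝓕.piece i) : ℚ) - (𝓕.nu αE α I i : ℚ) * (αE : ℚ)) := by
    rw [hS, Finset.sum_image hinj.injOn]
    exact Finset.sum_congr rfl fun j _ => by rw [hwt, hnu, hpiece]
  have hw : ∑ j, 𝓕₁.wt j = ∑ i ∈ S, 𝓕.wt i := by
    rw [hS, Finset.sum_image hinj.injOn]
    exact Finset.sum_congr rfl fun j _ => hwt j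
  have hrest : ∑ i ∈ Sᶜ, 𝓕.wt i * ((a : ℚ) * (α (𝓕.piece i) : ℚ) - (𝓕.nu αE α I i : ℚ) * (αE : ℚ)) ≤
      (∑ i ∈ Sᶜ, 𝓕.wt i) * ((a : ℚ) * ((αE : ℚ) - 1)) := by
    rw [Finset.sum_mul]
    exact Finset.sum_le_sum fun i _ => mul_le_mul_of_nonneg_left
      ((le_abs_self _).trans (abs_term_le 𝓕 αE α h1 hle I i)) (𝓕.wt_pos i).le
  rw [hg, hw, ← Finset.sum_add_sum_compl S 𝓕.wt, add_sub_cancel_left, mul_assoc]
  unfold DecSh.WFilt.gam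
  rw [← Finset.sum_add_sum_compl S]
  linarith

theorem single_bound (P : Subobject E) (hP : P ≠ ⊤) (hP0 : ¬ IsZero (P : C)) 
    (dE : ℚ) (d : Subobject E → ℚ) (N : DecSh.NV E a) (δ : ℚ) (hδ : 0 ≤ δ) (h0 : 0 ≤ αE)
    (h : (DecSh.WFilt.single P hP hP0).msum αE α dE d + δ * (DecSh.WFilt.single P hP hP0).mu αE α N ≤ 0) :
    (αE : ℚ) * d P - (α P : ℚ) * dE ≤ δ * (a : ℚ) * ((αE : ℚ) - (α P : ℚ)) := by
  have hm := mul_le_mul_of_nonneg_left (le_mu (DecSh.WFilt.single P hP hP0) αE α h0 N) hδ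
  have e : ∀ f : Fin (DecSh.WFilt.single P hP hP0).t → ℚ, ∑ i, f i = f (0 : Fin 1) := fun f => Fin.sum_univ_one f
  rw [DecSh.WFilt.msum, e] at h
  rw [e] at hm
  simp only [DecSh.WFilt.single, one_mul] at h hm
  nlinarith

end Groth.Agent.DecSh12
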