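import Groth.Agent.Lib.ParHilb12.Sheaf
import Groth.Agent.Lib.CurveCoh17.GenericZero
import Groth.Agent.Lib.SerreCl8.Sub
import Groth.Agent.Lib.DecSh12.Num
import Groth.Agent.Lib.CurveCoh17.Bases
import Groth.Prelude.Def_DecSh2

/-!
# Multiplicities of coherent submodules of torsion-free modules on a reduced curve
-/

set_option autoImplicit false
set_option linter.style.haveILetI false
set_option backward.isDefEq.respectTransparency false

universe u

open CategoryTheory CategoryTheory.Limits AlgebraicGeometry TopologicalSpace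

noncomputable section

namespace Groth.Agent.DecSh12

open Groth.Agent

variable {X : Scheme.{u}}

/-- On a Noetherian scheme without isolated points no maximal point is closed. -/
theorem not_isClosed_of_maxPt [IsNoetherian X] (hpure : ∀ x : X, ¬ IsOpen ({x} : Set X)) {z : X}
    (hz : FlatH4.IsMaxPt z) : ∃ w, z ⤳ w ∧ w ≠ z := by
  by_contra h
  push_neg at h
  obtain ⟨o, ho, hne, hsub⟩ := NoetherianSpace.exists_isOpen_nonempty_subset_irreducibleComponent
    (irreducibleComponent z) (irreducibleComponent_mem_irreducibleComponents z)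
  have hirr : IsIrreducible (irreducibleComponent z) := isIrreducible_irreducibleComponent
  have hgen := hirr.isGenericPoint_genericPoint isClosed_irreducibleComponent
  have hη : hirr.genericPoint = z := hz _ (hgen.specializes mem_irreducibleComponent)
  have hs : irreducibleComponent z ⊆ {z} := fun w hw => h w (hη ▸ hgen.specializes hw)
  exact hpure z ((Set.eq_singleton_iff_nonempty_unique_mem.2 ⟨hne, fun w hw => hs (hsub hw)⟩) ▸ ho)

/-- A nonzero submodule of a torsion-free module is nonzero at some maximal point. -/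
theorem exists_maxPt_mem_support [AlgebraicGeometry.IsReduced X] [IsLocallyNoetherian X] {E F : X.Modules}
    [Coh.IsQCoh E] (htf : TorSh.IsTorsionFree E) (ι : F ⟶ E) [Mono ι] (h0 : ¬ IsZero F) :
    ∃ z, FlatH4.IsMaxPt z ∧ z ∈ CohB1.support F := by
  by_contra h
  push_neg at h
  refine h0 (SerreCl8.isZero_of_support_eq_empty (Set.eq_empty_of_forall_notMem fun x hx => hx ⟨fun a b => ?_⟩))
  suffices hz : ∀ a : F.presheaf.stalk x, a = 0 by rw [hz a, hz b]
  intro a
  obtain ⟨U, hxU, s, rfl⟩ := TopCat.Presheaf.germ_exist F.presheaf a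
  have hs : ι.app U s = 0 := GenericZero.eq_zero_of_maxPt htf _ fun z hzU hzmax => by
    have hsub : Subsingleton (F.presheaf.stalk z) := not_not.1 (h z hzmax)
    refine ((TopCat.Presheaf.stalkFunctor_map_germ_apply U z hzU ι.mapPresheaf s).symm).trans ?_
    rw [Subsingleton.elim (F.presheaf.germ U z hzU s) 0]
    exact map_zero _
  refine SerreCl8.stalk_map_injective ι x ?_
  rw [map_zero]
  refine (TopCat.Presheaf.stalkFunctor_map_germ_apply U x hxU ι.mapPresheaf s).trans ?_
  exact (congrArg (fun t => E.presheaf.germ U x hxU t) hs).trans (map_zero _)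

/-- A module of rank zero is zero. -/
theorem isZero_rank_zero {E : X.Modules} (hE : FlatMod.IsFinLocFreeOfRank 0 E) : IsZero E :=
  SerreCl8.isZero_of_support_eq_empty (Set.eq_empty_of_forall_notMem fun x hx => by
    obtain ⟨e⟩ := CurveCoh17.nonempty_stalk_equiv hE x
    exact hx e.toEquiv.subsingleton)

variable (k : Type u) [Field k] [X.Over (Spec (CommRingCat.of k))] [IsProper (X ↘ Spec (CommRingCat.of k))]
  (hdim : topologicalKrullDim X = 1) {L : X.Modules} (hL : CohB1.IsAmple L)

local notation "𝐇" => ShStab28.hilb k X L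

include hdim in
theorem natDegree_hilb_le_one (hL' : PicF.IsInvertible L) {F : X.Modules} (hF : Coh.IsCoh F) :
    (𝐇 F).natDegree ≤ 1 :=
  ShStab28.natDegree_hilb_le k hL' hF
    ((Topology.IsInducing.subtypeVal.topologicalKrullDim_le).trans hdim.le)

include hdim in
/-- The multiplicity is the linear coefficient of the Hilbert polynomial. -/
theorem mult_eq (hL' : PicF.IsInvertible L) {F : X.Modules} (hF : Coh.IsCoh F) :
    (DecSh.mult k X L F : ℚ) = (𝐇 F).coeff 1 := by
  have h0 := ShStab28.hilb_spec k hL' hF 0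
  have h1 := ShStab28.hilb_spec k hL' hF 1
  have e0 : Curv2.euler k X (ShStab.twist X L F 0) = Curv2.euler k X F :=
    CurveCoh17.euler_iso (M2.tensorRUnit F)
  have e1 : Curv2.euler k X (ShStab.twist X L F 1) = Curv2.euler k X (CohB1.tensorMod F L) :=
    CurveCoh17.euler_iso (M2.tensorIso (Iso.refl F) (M2.tensorLUnit L))
  rw [e0] at h0
  rw [e1] at h1
  unfold DecSh.mult
  push_cast
  rw [h1, h0, Polynomial.eq_X_add_C_of_natDegree_le_one (natDegree_hilb_le_one k hdim hL' hF)]
  simp

include hdim hL in
theorem mult_nonneg {F : X.Modules} (hF : Coh.IsCoh F) : 0 ≤ DecSh.mult k X L F := by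
  rw [← Int.cast_nonneg_iff (R := ℚ), mult_eq k hdim hL.1 hF]
  exact ParHilb12.coeff_nonneg hL hF (natDegree_hilb_le_one k hdim hL.1 hF)

omit [IsProper (X ↘ Spec (CommRingCat.of k))] in
theorem mult_iso {F G : X.Modules} (e : F ≅ G) : DecSh.mult k X L F = DecSh.mult k X L G := by
  unfold DecSh.mult
  rw [CurveCoh17.euler_iso e, CurveCoh17.euler_iso (M2.tensorIso e (Iso.refl L))]

include hdim hL in
theorem mult_mono {F E : X.Modules} (ι : F ⟶ E) [Mono ι] (hF : Coh.IsCoh F) (hE : Coh.IsCoh E) :
    DecSh.mult k X L F ≤ DecSh.mult k X L E := by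
  rw [← Int.cast_le (R := ℚ), mult_eq k hdim hL.1 hF, mult_eq k hdim hL.1 hE]
  exact (ParHilb12.hilb_sub hL ι hF hE (natDegree_hilb_le_one k hdim hL.1 hE)).2.2

variable (hpure : ∀ x : X, ¬ IsOpen ({x} : Set X))

include hdim hL hpure in
/-- A nonzero coherent submodule of a torsion-free coherent module has multiplicity at least one. -/
theorem one_le_mult [AlgebraicGeometry.IsReduced X] {E F : X.Modules} (hE : Coh.IsCoh E)
    (htf : TorSh.IsTorsionFree E) (ι : F ⟶ E) [Mono ι] (hF : Coh.IsCoh F) (h0 : ¬ IsZero F) :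
    1 ≤ DecSh.mult k X L F := by
  haveI : IsNoetherian X := CohFound.isNoetherian_of_isProper (X ↘ Spec (CommRingCat.of k))
  haveI := hE.1
  obtain ⟨z, hzmax, hzF⟩ := exists_maxPt_mem_support htf ι h0
  obtain ⟨w, hzw, hwz⟩ := not_isClosed_of_maxPt hpure hzmax
  have hcl : IsClosed (CohB1.support F) := M1.isClosed_support hF.2
  have hwF : w ∈ CohB1.support F := hzw.mem_closed hcl hzF
  obtain ⟨e, he⟩ := ShStab28.exists_dim_supp k hF h0
  obtain ⟨hdeg, hlc⟩ := ShStab28.positive k hL F hF e he
  have hle : e ≤ 1 := by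
    have := (Topology.IsInducing.subtypeVal (t := CohB1.support F)).topologicalKrullDim_le.trans hdim.le
    rw [he] at this
    exact_mod_cast this
  have hge : (1 : WithBot ℕ∞) ≤ topologicalKrullDim (CohB1.support F) := by
    let a : CohB1.support F := ⟨w, hwF⟩
    let b : CohB1.support F := ⟨z, hzF⟩
    refine Order.one_le_krullDim_iff.2
      ⟨⟨closure {a}, isIrreducible_singleton.closure, isClosed_closure⟩,
       ⟨closure {b}, isIrreducible_singleton.closure, isClosed_closure⟩, ?_⟩
    refine lt_of_le_not_ge ?_ fun hba => hwz ?_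
    · exact (isClosed_closure.closure_subset_iff).2 (Set.singleton_subset_iff.2
        (specializes_iff_mem_closure.1 ((subtype_specializes_iff b a).2 hzw)))
    · have h' : a ⤳ b := specializes_iff_mem_closure.2 (hba (subset_closure rfl))
      exact (((subtype_specializes_iff a b).1 h').antisymm hzw).eq
  have he1 : e = 1 := le_antisymm hle (by rw [he] at hge; exact_mod_cast hge)
  subst he1
  have hpos : (0 : ℚ) < DecSh.mult k X L F := by
    rw [mult_eq k hdim hL.1 hF, ← hdeg]
    exact hlc
  exact_mod_cast hpos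

end Groth.Agent.DecSh12
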